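import Cfsg.Agent.H29.CosetCert.Fi22O.Closed0
import Cfsg.Agent.H29.CosetCert.Fi22O.Closed1
import Cfsg.Agent.H29.CosetCert.Fi22O.Closed2
import Cfsg.Agent.H29.CosetCert.Fi22O.Closed3
import Cfsg.Agent.H29.CosetCert.Fi22O.Closed4
import Cfsg.Agent.H29.CosetCert.Fi22O.Closed5
import Cfsg.Agent.H29.CosetCert.Fi22O.Closed6
import Cfsg.Agent.H29.CosetCert.Fi22O.Closed7

/-! Certificate data for Fi22O, produced by a coset enumeration outside Lean and checked here. -/

set_option autoImplicit false
set_option maxRecDepth 16000
set_option Elab.async false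

namespace H29.CosetCert.Fi22OData

open H29.CosetCert

theorem closed : allIn (fun c => allIn (fun x => Nat.blt (edge x c / 2) N &&
    let' (F (edge x c / 2)) == x && oStart F (edge x c) == nodeOf c &&
    oEnd F (edge x c) == nodeOf (T x c)) 0 9) 0 14080 = true := by
  rw [allIn_iff]
  intro c _ hc
  by_cases h0 : c < 300
  · exact ((allIn_iff _ _ _).1 closed0_ok c (by omega) (by omega))
  by_cases h1 : c < 600
  · exact ((allIn_iff _ _ _).1 closed1_ok c (by omega) (by omega))
  by_cases h2 : c < 900
  · exact ((allIn_iff _ _ _).1 closed2_ok c (by omega) (by omega))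
  by_cases h3 : c < 1200
  · exact ((allIn_iff _ _ _).1 closed3_ok c (by omega) (by omega))
  by_cases h4 : c < 1500
  · exact ((allIn_iff _ _ _).1 closed4_ok c (by omega) (by omega))
  by_cases h5 : c < 1800
  · exact ((allIn_iff _ _ _).1 closed5_ok c (by omega) (by omega))
  by_cases h6 : c < 2100
  · exact ((allIn_iff _ _ _).1 closed6_ok c (by omega) (by omega))
  by_cases h7 : c < 2400
  · exact ((allIn_iff _ _ _).1 closed7_ok c (by omega) (by omega))
  by_cases h8 : c < 2700
  · exact ((allIn_iff _ _ _).1 closed8_ok c (by omega) (by omega))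
  by_cases h9 : c < 3000
  · exact ((allIn_iff _ _ _).1 closed9_ok c (by omega) (by omega))
  by_cases h10 : c < 3300
  · exact ((allIn_iff _ _ _).1 closed10_ok c (by omega) (by omega))
  by_cases h11 : c < 3600
  · exact ((allIn_iff _ _ _).1 closed11_ok c (by omega) (by omega))
  by_cases h12 : c < 3900
  · exact ((allIn_iff _ _ _).1 closed12_ok c (by omega) (by omega))
  by_cases h13 : c < 4200
  · exact ((allIn_iff _ _ _).1 closed13_ok c (by omega) (by omega))
  by_cases h14 : c < 4500
  · exact ((allIn_iff _ _ _).1 closed14_ok c (by omega) (by omega))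
  by_cases h15 : c < 4800
  · exact ((allIn_iff _ _ _).1 closed15_ok c (by omega) (by omega))
  by_cases h16 : c < 5100
  · exact ((allIn_iff _ _ _).1 closed16_ok c (by omega) (by omega))
  by_cases h17 : c < 5400
  · exact ((allIn_iff _ _ _).1 closed17_ok c (by omega) (by omega))
  by_cases h18 : c < 5700
  · exact ((allIn_iff _ _ _).1 closed18_ok c (by omega) (by omega))
  by_cases h19 : c < 6000
  · exact ((allIn_iff _ _ _).1 closed19_ok c (by omega) (by omega))
  by_cases h20 : c < 6300
  · exact ((allIn_iff _ _ _).1 closed20_ok c (by omega) (by omega))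
  by_cases h21 : c < 6600
  · exact ((allIn_iff _ _ _).1 closed21_ok c (by omega) (by omega))
  by_cases h22 : c < 6900
  · exact ((allIn_iff _ _ _).1 closed22_ok c (by omega) (by omega))
  by_cases h23 : c < 7200
  · exact ((allIn_iff _ _ _).1 closed23_ok c (by omega) (by omega))
  by_cases h24 : c < 7500
  · exact ((allIn_iff _ _ _).1 closed24_ok c (by omega) (by omega))
  by_cases h25 : c < 7800
  · exact ((allIn_iff _ _ _).1 closed25_ok c (by omega) (by omega))
  by_cases h26 : c < 8100
  · exact ((allIn_iff _ _ _).1 closed26_ok c (by omega) (by omega))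
  by_cases h27 : c < 8400
  · exact ((allIn_iff _ _ _).1 closed27_ok c (by omega) (by omega))
  by_cases h28 : c < 8700
  · exact ((allIn_iff _ _ _).1 closed28_ok c (by omega) (by omega))
  by_cases h29 : c < 9000
  · exact ((allIn_iff _ _ _).1 closed29_ok c (by omega) (by omega))
  by_cases h30 : c < 9300
  · exact ((allIn_iff _ _ _).1 closed30_ok c (by omega) (by omega))
  by_cases h31 : c < 9600
  · exact ((allIn_iff _ _ _).1 closed31_ok c (by omega) (by omega))
  by_cases h32 : c < 9900
  · exact ((allIn_iff _ _ _).1 closed32_ok c (by omega) (by omega))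
  by_cases h33 : c < 10200
  · exact ((allIn_iff _ _ _).1 closed33_ok c (by omega) (by omega))
  by_cases h34 : c < 10500
  · exact ((allIn_iff _ _ _).1 closed34_ok c (by omega) (by omega))
  by_cases h35 : c < 10800
  · exact ((allIn_iff _ _ _).1 closed35_ok c (by omega) (by omega))
  by_cases h36 : c < 11100
  · exact ((allIn_iff _ _ _).1 closed36_ok c (by omega) (by omega))
  by_cases h37 : c < 11400
  · exact ((allIn_iff _ _ _).1 closed37_ok c (by omega) (by omega))
  by_cases h38 : c < 11700
  · exact ((allIn_iff _ _ _).1 closed38_ok c (by omega) (by omega))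
  by_cases h39 : c < 12000
  · exact ((allIn_iff _ _ _).1 closed39_ok c (by omega) (by omega))
  by_cases h40 : c < 12300
  · exact ((allIn_iff _ _ _).1 closed40_ok c (by omega) (by omega))
  by_cases h41 : c < 12600
  · exact ((allIn_iff _ _ _).1 closed41_ok c (by omega) (by omega))
  by_cases h42 : c < 12900
  · exact ((allIn_iff _ _ _).1 closed42_ok c (by omega) (by omega))
  by_cases h43 : c < 13200
  · exact ((allIn_iff _ _ _).1 closed43_ok c (by omega) (by omega))
  by_cases h44 : c < 13500
  · exact ((allIn_iff _ _ _).1 closed44_ok c (by omega) (by omega))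
  by_cases h45 : c < 13800
  · exact ((allIn_iff _ _ _).1 closed45_ok c (by omega) (by omega))
  by_cases h46 : c < 14080
  · exact ((allIn_iff _ _ _).1 closed46_ok c (by omega) (by omega))
  omega

end H29.CosetCert.Fi22OData
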