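import Cfsg.Agent.H29.CosetCert.Fi22O.Steps0
import Cfsg.Agent.H29.CosetCert.Fi22O.Steps1
import Cfsg.Agent.H29.CosetCert.Fi22O.Steps2
import Cfsg.Agent.H29.CosetCert.Fi22O.Steps3
import Cfsg.Agent.H29.CosetCert.Fi22O.Steps4
import Cfsg.Agent.H29.CosetCert.Fi22O.Steps5
import Cfsg.Agent.H29.CosetCert.Fi22O.Steps6
import Cfsg.Agent.H29.CosetCert.Fi22O.Steps7
import Cfsg.Agent.H29.CosetCert.Fi22O.Steps8
import Cfsg.Agent.H29.CosetCert.Fi22O.Steps9
import Cfsg.Agent.H29.CosetCert.Fi22O.Steps10
import Cfsg.Agent.H29.CosetCert.Fi22O.Steps11
import Cfsg.Agent.H29.CosetCert.Fi22O.Steps12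
import Cfsg.Agent.H29.CosetCert.Fi22O.Steps13
import Cfsg.Agent.H29.CosetCert.Fi22O.Steps14
import Cfsg.Agent.H29.CosetCert.Fi22O.Steps15
import Cfsg.Agent.H29.CosetCert.Fi22O.Steps16
import Cfsg.Agent.H29.CosetCert.Sound

/-! Certificate data for Fi22O, produced by a coset enumeration outside Lean and checked here. -/

set_option autoImplicit false
set_option maxRecDepth 16000
set_option Elab.async false

namespace H29.CosetCert.Fi22OData

open H29.CosetCert

theorem deds : ∀ k, nd ≤ k → k < N → ∃ s, chkDed F R S k s = true := by
  intro k h1 h2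
  unfold nd at h1
  unfold N at h2
  by_cases c0 : k < 18710
  · exact chkList_get F R S st0 18454 st0_ok.1 k (by omega) (by rw [st0_ok.2]; omega)
  by_cases c1 : k < 18966
  · exact chkList_get F R S st1 18710 st1_ok.1 k (by omega) (by rw [st1_ok.2]; omega)
  by_cases c2 : k < 19222
  · exact chkList_get F R S st2 18966 st2_ok.1 k (by omega) (by rw [st2_ok.2]; omega)
  by_cases c3 : k < 19478
  · exact chkList_get F R S st3 19222 st3_ok.1 k (by omega) (by rw [st3_ok.2]; omega)
  by_cases c4 : k < 19734
  · exact chkList_get F R S st4 19478 st4_ok.1 k (by omega) (by rw [st4_ok.2]; omega)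
  by_cases c5 : k < 19990
  · exact chkList_get F R S st5 19734 st5_ok.1 k (by omega) (by rw [st5_ok.2]; omega)
  by_cases c6 : k < 20246
  · exact chkList_get F R S st6 19990 st6_ok.1 k (by omega) (by rw [st6_ok.2]; omega)
  by_cases c7 : k < 20502
  · exact chkList_get F R S st7 20246 st7_ok.1 k (by omega) (by rw [st7_ok.2]; omega)
  by_cases c8 : k < 20758
  · exact chkList_get F R S st8 20502 st8_ok.1 k (by omega) (by rw [st8_ok.2]; omega)
  by_cases c9 : k < 21014
  · exact chkList_get F R S st9 20758 st9_ok.1 k (by omega) (by rw [st9_ok.2]; omega)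
  by_cases c10 : k < 21270
  · exact chkList_get F R S st10 21014 st10_ok.1 k (by omega) (by rw [st10_ok.2]; omega)
  by_cases c11 : k < 21526
  · exact chkList_get F R S st11 21270 st11_ok.1 k (by omega) (by rw [st11_ok.2]; omega)
  by_cases c12 : k < 21782
  · exact chkList_get F R S st12 21526 st12_ok.1 k (by omega) (by rw [st12_ok.2]; omega)
  by_cases c13 : k < 22038
  · exact chkList_get F R S st13 21782 st13_ok.1 k (by omega) (by rw [st13_ok.2]; omega)
  by_cases c14 : k < 22294
  · exact chkList_get F R S st14 22038 st14_ok.1 k (by omega) (by rw [st14_ok.2]; omega)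
  by_cases c15 : k < 22550
  · exact chkList_get F R S st15 22294 st15_ok.1 k (by omega) (by rw [st15_ok.2]; omega)
  by_cases c16 : k < 22806
  · exact chkList_get F R S st16 22550 st16_ok.1 k (by omega) (by rw [st16_ok.2]; omega)
  by_cases c17 : k < 23062
  · exact chkList_get F R S st17 22806 st17_ok.1 k (by omega) (by rw [st17_ok.2]; omega)
  by_cases c18 : k < 23318
  · exact chkList_get F R S st18 23062 st18_ok.1 k (by omega) (by rw [st18_ok.2]; omega)
  by_cases c19 : k < 23574
  · exact chkList_get F R S st19 23318 st19_ok.1 k (by omega) (by rw [st19_ok.2]; omega)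
  by_cases c20 : k < 23830
  · exact chkList_get F R S st20 23574 st20_ok.1 k (by omega) (by rw [st20_ok.2]; omega)
  by_cases c21 : k < 24086
  · exact chkList_get F R S st21 23830 st21_ok.1 k (by omega) (by rw [st21_ok.2]; omega)
  by_cases c22 : k < 24342
  · exact chkList_get F R S st22 24086 st22_ok.1 k (by omega) (by rw [st22_ok.2]; omega)
  by_cases c23 : k < 24598
  · exact chkList_get F R S st23 24342 st23_ok.1 k (by omega) (by rw [st23_ok.2]; omega)
  by_cases c24 : k < 24854
  · exact chkList_get F R S st24 24598 st24_ok.1 k (by omega) (by rw [st24_ok.2]; omega)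
  by_cases c25 : k < 25110
  · exact chkList_get F R S st25 24854 st25_ok.1 k (by omega) (by rw [st25_ok.2]; omega)
  by_cases c26 : k < 25366
  · exact chkList_get F R S st26 25110 st26_ok.1 k (by omega) (by rw [st26_ok.2]; omega)
  by_cases c27 : k < 25622
  · exact chkList_get F R S st27 25366 st27_ok.1 k (by omega) (by rw [st27_ok.2]; omega)
  by_cases c28 : k < 25878
  · exact chkList_get F R S st28 25622 st28_ok.1 k (by omega) (by rw [st28_ok.2]; omega)
  by_cases c29 : k < 26134
  · exact chkList_get F R S st29 25878 st29_ok.1 k (by omega) (by rw [st29_ok.2]; omega)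
  by_cases c30 : k < 26390
  · exact chkList_get F R S st30 26134 st30_ok.1 k (by omega) (by rw [st30_ok.2]; omega)
  by_cases c31 : k < 26646
  · exact chkList_get F R S st31 26390 st31_ok.1 k (by omega) (by rw [st31_ok.2]; omega)
  by_cases c32 : k < 26902
  · exact chkList_get F R S st32 26646 st32_ok.1 k (by omega) (by rw [st32_ok.2]; omega)
  by_cases c33 : k < 27158
  · exact chkList_get F R S st33 26902 st33_ok.1 k (by omega) (by rw [st33_ok.2]; omega)
  by_cases c34 : k < 27414
  · exact chkList_get F R S st34 27158 st34_ok.1 k (by omega) (by rw [st34_ok.2]; omega)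
  by_cases c35 : k < 27670
  · exact chkList_get F R S st35 27414 st35_ok.1 k (by omega) (by rw [st35_ok.2]; omega)
  by_cases c36 : k < 27926
  · exact chkList_get F R S st36 27670 st36_ok.1 k (by omega) (by rw [st36_ok.2]; omega)
  by_cases c37 : k < 28182
  · exact chkList_get F R S st37 27926 st37_ok.1 k (by omega) (by rw [st37_ok.2]; omega)
  by_cases c38 : k < 28438
  · exact chkList_get F R S st38 28182 st38_ok.1 k (by omega) (by rw [st38_ok.2]; omega)
  by_cases c39 : k < 28694
  · exact chkList_get F R S st39 28438 st39_ok.1 k (by omega) (by rw [st39_ok.2]; omega)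
  by_cases c40 : k < 28950
  · exact chkList_get F R S st40 28694 st40_ok.1 k (by omega) (by rw [st40_ok.2]; omega)
  by_cases c41 : k < 29206
  · exact chkList_get F R S st41 28950 st41_ok.1 k (by omega) (by rw [st41_ok.2]; omega)
  by_cases c42 : k < 29462
  · exact chkList_get F R S st42 29206 st42_ok.1 k (by omega) (by rw [st42_ok.2]; omega)
  by_cases c43 : k < 29718
  · exact chkList_get F R S st43 29462 st43_ok.1 k (by omega) (by rw [st43_ok.2]; omega)
  by_cases c44 : k < 29974
  · exact chkList_get F R S st44 29718 st44_ok.1 k (by omega) (by rw [st44_ok.2]; omega)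
  by_cases c45 : k < 30230
  · exact chkList_get F R S st45 29974 st45_ok.1 k (by omega) (by rw [st45_ok.2]; omega)
  by_cases c46 : k < 30486
  · exact chkList_get F R S st46 30230 st46_ok.1 k (by omega) (by rw [st46_ok.2]; omega)
  by_cases c47 : k < 30742
  · exact chkList_get F R S st47 30486 st47_ok.1 k (by omega) (by rw [st47_ok.2]; omega)
  by_cases c48 : k < 30998
  · exact chkList_get F R S st48 30742 st48_ok.1 k (by omega) (by rw [st48_ok.2]; omega)
  by_cases c49 : k < 31254
  · exact chkList_get F R S st49 30998 st49_ok.1 k (by omega) (by rw [st49_ok.2]; omega)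
  by_cases c50 : k < 31510
  · exact chkList_get F R S st50 31254 st50_ok.1 k (by omega) (by rw [st50_ok.2]; omega)
  by_cases c51 : k < 31766
  · exact chkList_get F R S st51 31510 st51_ok.1 k (by omega) (by rw [st51_ok.2]; omega)
  by_cases c52 : k < 32022
  · exact chkList_get F R S st52 31766 st52_ok.1 k (by omega) (by rw [st52_ok.2]; omega)
  by_cases c53 : k < 32278
  · exact chkList_get F R S st53 32022 st53_ok.1 k (by omega) (by rw [st53_ok.2]; omega)
  by_cases c54 : k < 32534
  · exact chkList_get F R S st54 32278 st54_ok.1 k (by omega) (by rw [st54_ok.2]; omega)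
  by_cases c55 : k < 32790
  · exact chkList_get F R S st55 32534 st55_ok.1 k (by omega) (by rw [st55_ok.2]; omega)
  by_cases c56 : k < 33046
  · exact chkList_get F R S st56 32790 st56_ok.1 k (by omega) (by rw [st56_ok.2]; omega)
  by_cases c57 : k < 33302
  · exact chkList_get F R S st57 33046 st57_ok.1 k (by omega) (by rw [st57_ok.2]; omega)
  by_cases c58 : k < 33558
  · exact chkList_get F R S st58 33302 st58_ok.1 k (by omega) (by rw [st58_ok.2]; omega)
  by_cases c59 : k < 33814
  · exact chkList_get F R S st59 33558 st59_ok.1 k (by omega) (by rw [st59_ok.2]; omega)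
  by_cases c60 : k < 34070
  · exact chkList_get F R S st60 33814 st60_ok.1 k (by omega) (by rw [st60_ok.2]; omega)
  by_cases c61 : k < 34326
  · exact chkList_get F R S st61 34070 st61_ok.1 k (by omega) (by rw [st61_ok.2]; omega)
  by_cases c62 : k < 34582
  · exact chkList_get F R S st62 34326 st62_ok.1 k (by omega) (by rw [st62_ok.2]; omega)
  by_cases c63 : k < 34838
  · exact chkList_get F R S st63 34582 st63_ok.1 k (by omega) (by rw [st63_ok.2]; omega)
  by_cases c64 : k < 35094
  · exact chkList_get F R S st64 34838 st64_ok.1 k (by omega) (by rw [st64_ok.2]; omega)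
  by_cases c65 : k < 35350
  · exact chkList_get F R S st65 35094 st65_ok.1 k (by omega) (by rw [st65_ok.2]; omega)
  by_cases c66 : k < 35606
  · exact chkList_get F R S st66 35350 st66_ok.1 k (by omega) (by rw [st66_ok.2]; omega)
  by_cases c67 : k < 35862
  · exact chkList_get F R S st67 35606 st67_ok.1 k (by omega) (by rw [st67_ok.2]; omega)
  by_cases c68 : k < 36118
  · exact chkList_get F R S st68 35862 st68_ok.1 k (by omega) (by rw [st68_ok.2]; omega)
  by_cases c69 : k < 36374
  · exact chkList_get F R S st69 36118 st69_ok.1 k (by omega) (by rw [st69_ok.2]; omega)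
  by_cases c70 : k < 36630
  · exact chkList_get F R S st70 36374 st70_ok.1 k (by omega) (by rw [st70_ok.2]; omega)
  by_cases c71 : k < 36886
  · exact chkList_get F R S st71 36630 st71_ok.1 k (by omega) (by rw [st71_ok.2]; omega)
  by_cases c72 : k < 37142
  · exact chkList_get F R S st72 36886 st72_ok.1 k (by omega) (by rw [st72_ok.2]; omega)
  by_cases c73 : k < 37398
  · exact chkList_get F R S st73 37142 st73_ok.1 k (by omega) (by rw [st73_ok.2]; omega)
  by_cases c74 : k < 37654
  · exact chkList_get F R S st74 37398 st74_ok.1 k (by omega) (by rw [st74_ok.2]; omega)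
  by_cases c75 : k < 37910
  · exact chkList_get F R S st75 37654 st75_ok.1 k (by omega) (by rw [st75_ok.2]; omega)
  by_cases c76 : k < 38166
  · exact chkList_get F R S st76 37910 st76_ok.1 k (by omega) (by rw [st76_ok.2]; omega)
  by_cases c77 : k < 38422
  · exact chkList_get F R S st77 38166 st77_ok.1 k (by omega) (by rw [st77_ok.2]; omega)
  by_cases c78 : k < 38678
  · exact chkList_get F R S st78 38422 st78_ok.1 k (by omega) (by rw [st78_ok.2]; omega)
  by_cases c79 : k < 38934
  · exact chkList_get F R S st79 38678 st79_ok.1 k (by omega) (by rw [st79_ok.2]; omega)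
  by_cases c80 : k < 39190
  · exact chkList_get F R S st80 38934 st80_ok.1 k (by omega) (by rw [st80_ok.2]; omega)
  by_cases c81 : k < 39446
  · exact chkList_get F R S st81 39190 st81_ok.1 k (by omega) (by rw [st81_ok.2]; omega)
  by_cases c82 : k < 39702
  · exact chkList_get F R S st82 39446 st82_ok.1 k (by omega) (by rw [st82_ok.2]; omega)
  by_cases c83 : k < 39958
  · exact chkList_get F R S st83 39702 st83_ok.1 k (by omega) (by rw [st83_ok.2]; omega)
  by_cases c84 : k < 40214
  · exact chkList_get F R S st84 39958 st84_ok.1 k (by omega) (by rw [st84_ok.2]; omega)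
  by_cases c85 : k < 40470
  · exact chkList_get F R S st85 40214 st85_ok.1 k (by omega) (by rw [st85_ok.2]; omega)
  by_cases c86 : k < 40726
  · exact chkList_get F R S st86 40470 st86_ok.1 k (by omega) (by rw [st86_ok.2]; omega)
  by_cases c87 : k < 40982
  · exact chkList_get F R S st87 40726 st87_ok.1 k (by omega) (by rw [st87_ok.2]; omega)
  by_cases c88 : k < 41238
  · exact chkList_get F R S st88 40982 st88_ok.1 k (by omega) (by rw [st88_ok.2]; omega)
  by_cases c89 : k < 41494
  · exact chkList_get F R S st89 41238 st89_ok.1 k (by omega) (by rw [st89_ok.2]; omega)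
  by_cases c90 : k < 41750
  · exact chkList_get F R S st90 41494 st90_ok.1 k (by omega) (by rw [st90_ok.2]; omega)
  by_cases c91 : k < 42006
  · exact chkList_get F R S st91 41750 st91_ok.1 k (by omega) (by rw [st91_ok.2]; omega)
  by_cases c92 : k < 42262
  · exact chkList_get F R S st92 42006 st92_ok.1 k (by omega) (by rw [st92_ok.2]; omega)
  by_cases c93 : k < 42518
  · exact chkList_get F R S st93 42262 st93_ok.1 k (by omega) (by rw [st93_ok.2]; omega)
  by_cases c94 : k < 42774
  · exact chkList_get F R S st94 42518 st94_ok.1 k (by omega) (by rw [st94_ok.2]; omega)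
  by_cases c95 : k < 43030
  · exact chkList_get F R S st95 42774 st95_ok.1 k (by omega) (by rw [st95_ok.2]; omega)
  by_cases c96 : k < 43286
  · exact chkList_get F R S st96 43030 st96_ok.1 k (by omega) (by rw [st96_ok.2]; omega)
  by_cases c97 : k < 43542
  · exact chkList_get F R S st97 43286 st97_ok.1 k (by omega) (by rw [st97_ok.2]; omega)
  by_cases c98 : k < 43798
  · exact chkList_get F R S st98 43542 st98_ok.1 k (by omega) (by rw [st98_ok.2]; omega)
  by_cases c99 : k < 44054
  · exact chkList_get F R S st99 43798 st99_ok.1 k (by omega) (by rw [st99_ok.2]; omega)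
  by_cases c100 : k < 44310
  · exact chkList_get F R S st100 44054 st100_ok.1 k (by omega) (by rw [st100_ok.2]; omega)
  by_cases c101 : k < 44566
  · exact chkList_get F R S st101 44310 st101_ok.1 k (by omega) (by rw [st101_ok.2]; omega)
  by_cases c102 : k < 44822
  · exact chkList_get F R S st102 44566 st102_ok.1 k (by omega) (by rw [st102_ok.2]; omega)
  by_cases c103 : k < 45078
  · exact chkList_get F R S st103 44822 st103_ok.1 k (by omega) (by rw [st103_ok.2]; omega)
  by_cases c104 : k < 45334
  · exact chkList_get F R S st104 45078 st104_ok.1 k (by omega) (by rw [st104_ok.2]; omega)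
  by_cases c105 : k < 45590
  · exact chkList_get F R S st105 45334 st105_ok.1 k (by omega) (by rw [st105_ok.2]; omega)
  by_cases c106 : k < 45846
  · exact chkList_get F R S st106 45590 st106_ok.1 k (by omega) (by rw [st106_ok.2]; omega)
  by_cases c107 : k < 46102
  · exact chkList_get F R S st107 45846 st107_ok.1 k (by omega) (by rw [st107_ok.2]; omega)
  by_cases c108 : k < 46358
  · exact chkList_get F R S st108 46102 st108_ok.1 k (by omega) (by rw [st108_ok.2]; omega)
  by_cases c109 : k < 46614
  · exact chkList_get F R S st109 46358 st109_ok.1 k (by omega) (by rw [st109_ok.2]; omega)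
  by_cases c110 : k < 46870
  · exact chkList_get F R S st110 46614 st110_ok.1 k (by omega) (by rw [st110_ok.2]; omega)
  by_cases c111 : k < 47126
  · exact chkList_get F R S st111 46870 st111_ok.1 k (by omega) (by rw [st111_ok.2]; omega)
  by_cases c112 : k < 47382
  · exact chkList_get F R S st112 47126 st112_ok.1 k (by omega) (by rw [st112_ok.2]; omega)
  by_cases c113 : k < 47638
  · exact chkList_get F R S st113 47382 st113_ok.1 k (by omega) (by rw [st113_ok.2]; omega)
  by_cases c114 : k < 47894
  · exact chkList_get F R S st114 47638 st114_ok.1 k (by omega) (by rw [st114_ok.2]; omega)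
  by_cases c115 : k < 48150
  · exact chkList_get F R S st115 47894 st115_ok.1 k (by omega) (by rw [st115_ok.2]; omega)
  by_cases c116 : k < 48406
  · exact chkList_get F R S st116 48150 st116_ok.1 k (by omega) (by rw [st116_ok.2]; omega)
  by_cases c117 : k < 48662
  · exact chkList_get F R S st117 48406 st117_ok.1 k (by omega) (by rw [st117_ok.2]; omega)
  by_cases c118 : k < 48918
  · exact chkList_get F R S st118 48662 st118_ok.1 k (by omega) (by rw [st118_ok.2]; omega)
  by_cases c119 : k < 49174
  · exact chkList_get F R S st119 48918 st119_ok.1 k (by omega) (by rw [st119_ok.2]; omega)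
  by_cases c120 : k < 49430
  · exact chkList_get F R S st120 49174 st120_ok.1 k (by omega) (by rw [st120_ok.2]; omega)
  by_cases c121 : k < 49686
  · exact chkList_get F R S st121 49430 st121_ok.1 k (by omega) (by rw [st121_ok.2]; omega)
  by_cases c122 : k < 49942
  · exact chkList_get F R S st122 49686 st122_ok.1 k (by omega) (by rw [st122_ok.2]; omega)
  by_cases c123 : k < 50198
  · exact chkList_get F R S st123 49942 st123_ok.1 k (by omega) (by rw [st123_ok.2]; omega)
  by_cases c124 : k < 50454
  · exact chkList_get F R S st124 50198 st124_ok.1 k (by omega) (by rw [st124_ok.2]; omega)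
  by_cases c125 : k < 50710
  · exact chkList_get F R S st125 50454 st125_ok.1 k (by omega) (by rw [st125_ok.2]; omega)
  by_cases c126 : k < 50966
  · exact chkList_get F R S st126 50710 st126_ok.1 k (by omega) (by rw [st126_ok.2]; omega)
  by_cases c127 : k < 51222
  · exact chkList_get F R S st127 50966 st127_ok.1 k (by omega) (by rw [st127_ok.2]; omega)
  by_cases c128 : k < 51478
  · exact chkList_get F R S st128 51222 st128_ok.1 k (by omega) (by rw [st128_ok.2]; omega)
  by_cases c129 : k < 51734
  · exact chkList_get F R S st129 51478 st129_ok.1 k (by omega) (by rw [st129_ok.2]; omega)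
  by_cases c130 : k < 51990
  · exact chkList_get F R S st130 51734 st130_ok.1 k (by omega) (by rw [st130_ok.2]; omega)
  by_cases c131 : k < 52246
  · exact chkList_get F R S st131 51990 st131_ok.1 k (by omega) (by rw [st131_ok.2]; omega)
  by_cases c132 : k < 52502
  · exact chkList_get F R S st132 52246 st132_ok.1 k (by omega) (by rw [st132_ok.2]; omega)
  by_cases c133 : k < 52758
  · exact chkList_get F R S st133 52502 st133_ok.1 k (by omega) (by rw [st133_ok.2]; omega)
  by_cases c134 : k < 53014
  · exact chkList_get F R S st134 52758 st134_ok.1 k (by omega) (by rw [st134_ok.2]; omega)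
  by_cases c135 : k < 53270
  · exact chkList_get F R S st135 53014 st135_ok.1 k (by omega) (by rw [st135_ok.2]; omega)
  by_cases c136 : k < 53526
  · exact chkList_get F R S st136 53270 st136_ok.1 k (by omega) (by rw [st136_ok.2]; omega)
  by_cases c137 : k < 53782
  · exact chkList_get F R S st137 53526 st137_ok.1 k (by omega) (by rw [st137_ok.2]; omega)
  by_cases c138 : k < 54038
  · exact chkList_get F R S st138 53782 st138_ok.1 k (by omega) (by rw [st138_ok.2]; omega)
  by_cases c139 : k < 54294
  · exact chkList_get F R S st139 54038 st139_ok.1 k (by omega) (by rw [st139_ok.2]; omega)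
  by_cases c140 : k < 54550
  · exact chkList_get F R S st140 54294 st140_ok.1 k (by omega) (by rw [st140_ok.2]; omega)
  by_cases c141 : k < 54806
  · exact chkList_get F R S st141 54550 st141_ok.1 k (by omega) (by rw [st141_ok.2]; omega)
  by_cases c142 : k < 55062
  · exact chkList_get F R S st142 54806 st142_ok.1 k (by omega) (by rw [st142_ok.2]; omega)
  by_cases c143 : k < 55318
  · exact chkList_get F R S st143 55062 st143_ok.1 k (by omega) (by rw [st143_ok.2]; omega)
  by_cases c144 : k < 55574
  · exact chkList_get F R S st144 55318 st144_ok.1 k (by omega) (by rw [st144_ok.2]; omega)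
  by_cases c145 : k < 55830
  · exact chkList_get F R S st145 55574 st145_ok.1 k (by omega) (by rw [st145_ok.2]; omega)
  by_cases c146 : k < 56086
  · exact chkList_get F R S st146 55830 st146_ok.1 k (by omega) (by rw [st146_ok.2]; omega)
  by_cases c147 : k < 56342
  · exact chkList_get F R S st147 56086 st147_ok.1 k (by omega) (by rw [st147_ok.2]; omega)
  by_cases c148 : k < 56598
  · exact chkList_get F R S st148 56342 st148_ok.1 k (by omega) (by rw [st148_ok.2]; omega)
  by_cases c149 : k < 56854
  · exact chkList_get F R S st149 56598 st149_ok.1 k (by omega) (by rw [st149_ok.2]; omega)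
  by_cases c150 : k < 57110
  · exact chkList_get F R S st150 56854 st150_ok.1 k (by omega) (by rw [st150_ok.2]; omega)
  by_cases c151 : k < 57366
  · exact chkList_get F R S st151 57110 st151_ok.1 k (by omega) (by rw [st151_ok.2]; omega)
  by_cases c152 : k < 57622
  · exact chkList_get F R S st152 57366 st152_ok.1 k (by omega) (by rw [st152_ok.2]; omega)
  by_cases c153 : k < 57878
  · exact chkList_get F R S st153 57622 st153_ok.1 k (by omega) (by rw [st153_ok.2]; omega)
  by_cases c154 : k < 58134
  · exact chkList_get F R S st154 57878 st154_ok.1 k (by omega) (by rw [st154_ok.2]; omega)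
  by_cases c155 : k < 58390
  · exact chkList_get F R S st155 58134 st155_ok.1 k (by omega) (by rw [st155_ok.2]; omega)
  by_cases c156 : k < 58646
  · exact chkList_get F R S st156 58390 st156_ok.1 k (by omega) (by rw [st156_ok.2]; omega)
  by_cases c157 : k < 58902
  · exact chkList_get F R S st157 58646 st157_ok.1 k (by omega) (by rw [st157_ok.2]; omega)
  by_cases c158 : k < 59158
  · exact chkList_get F R S st158 58902 st158_ok.1 k (by omega) (by rw [st158_ok.2]; omega)
  by_cases c159 : k < 59414
  · exact chkList_get F R S st159 59158 st159_ok.1 k (by omega) (by rw [st159_ok.2]; omega)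
  by_cases c160 : k < 59670
  · exact chkList_get F R S st160 59414 st160_ok.1 k (by omega) (by rw [st160_ok.2]; omega)
  by_cases c161 : k < 59926
  · exact chkList_get F R S st161 59670 st161_ok.1 k (by omega) (by rw [st161_ok.2]; omega)
  by_cases c162 : k < 60182
  · exact chkList_get F R S st162 59926 st162_ok.1 k (by omega) (by rw [st162_ok.2]; omega)
  by_cases c163 : k < 60438
  · exact chkList_get F R S st163 60182 st163_ok.1 k (by omega) (by rw [st163_ok.2]; omega)
  by_cases c164 : k < 60694
  · exact chkList_get F R S st164 60438 st164_ok.1 k (by omega) (by rw [st164_ok.2]; omega)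
  by_cases c165 : k < 60950
  · exact chkList_get F R S st165 60694 st165_ok.1 k (by omega) (by rw [st165_ok.2]; omega)
  by_cases c166 : k < 61206
  · exact chkList_get F R S st166 60950 st166_ok.1 k (by omega) (by rw [st166_ok.2]; omega)
  by_cases c167 : k < 61462
  · exact chkList_get F R S st167 61206 st167_ok.1 k (by omega) (by rw [st167_ok.2]; omega)
  by_cases c168 : k < 61718
  · exact chkList_get F R S st168 61462 st168_ok.1 k (by omega) (by rw [st168_ok.2]; omega)
  by_cases c169 : k < 61974
  · exact chkList_get F R S st169 61718 st169_ok.1 k (by omega) (by rw [st169_ok.2]; omega)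
  by_cases c170 : k < 62230
  · exact chkList_get F R S st170 61974 st170_ok.1 k (by omega) (by rw [st170_ok.2]; omega)
  by_cases c171 : k < 62486
  · exact chkList_get F R S st171 62230 st171_ok.1 k (by omega) (by rw [st171_ok.2]; omega)
  by_cases c172 : k < 62742
  · exact chkList_get F R S st172 62486 st172_ok.1 k (by omega) (by rw [st172_ok.2]; omega)
  by_cases c173 : k < 62998
  · exact chkList_get F R S st173 62742 st173_ok.1 k (by omega) (by rw [st173_ok.2]; omega)
  by_cases c174 : k < 63254
  · exact chkList_get F R S st174 62998 st174_ok.1 k (by omega) (by rw [st174_ok.2]; omega)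
  by_cases c175 : k < 63510
  · exact chkList_get F R S st175 63254 st175_ok.1 k (by omega) (by rw [st175_ok.2]; omega)
  by_cases c176 : k < 63766
  · exact chkList_get F R S st176 63510 st176_ok.1 k (by omega) (by rw [st176_ok.2]; omega)
  by_cases c177 : k < 64022
  · exact chkList_get F R S st177 63766 st177_ok.1 k (by omega) (by rw [st177_ok.2]; omega)
  by_cases c178 : k < 64278
  · exact chkList_get F R S st178 64022 st178_ok.1 k (by omega) (by rw [st178_ok.2]; omega)
  by_cases c179 : k < 64534
  · exact chkList_get F R S st179 64278 st179_ok.1 k (by omega) (by rw [st179_ok.2]; omega)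
  by_cases c180 : k < 64790
  · exact chkList_get F R S st180 64534 st180_ok.1 k (by omega) (by rw [st180_ok.2]; omega)
  by_cases c181 : k < 65046
  · exact chkList_get F R S st181 64790 st181_ok.1 k (by omega) (by rw [st181_ok.2]; omega)
  by_cases c182 : k < 65302
  · exact chkList_get F R S st182 65046 st182_ok.1 k (by omega) (by rw [st182_ok.2]; omega)
  by_cases c183 : k < 65558
  · exact chkList_get F R S st183 65302 st183_ok.1 k (by omega) (by rw [st183_ok.2]; omega)
  by_cases c184 : k < 65814
  · exact chkList_get F R S st184 65558 st184_ok.1 k (by omega) (by rw [st184_ok.2]; omega)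
  by_cases c185 : k < 66070
  · exact chkList_get F R S st185 65814 st185_ok.1 k (by omega) (by rw [st185_ok.2]; omega)
  by_cases c186 : k < 66326
  · exact chkList_get F R S st186 66070 st186_ok.1 k (by omega) (by rw [st186_ok.2]; omega)
  by_cases c187 : k < 66582
  · exact chkList_get F R S st187 66326 st187_ok.1 k (by omega) (by rw [st187_ok.2]; omega)
  by_cases c188 : k < 66838
  · exact chkList_get F R S st188 66582 st188_ok.1 k (by omega) (by rw [st188_ok.2]; omega)
  by_cases c189 : k < 67094
  · exact chkList_get F R S st189 66838 st189_ok.1 k (by omega) (by rw [st189_ok.2]; omega)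
  by_cases c190 : k < 67350
  · exact chkList_get F R S st190 67094 st190_ok.1 k (by omega) (by rw [st190_ok.2]; omega)
  by_cases c191 : k < 67606
  · exact chkList_get F R S st191 67350 st191_ok.1 k (by omega) (by rw [st191_ok.2]; omega)
  by_cases c192 : k < 67862
  · exact chkList_get F R S st192 67606 st192_ok.1 k (by omega) (by rw [st192_ok.2]; omega)
  by_cases c193 : k < 68118
  · exact chkList_get F R S st193 67862 st193_ok.1 k (by omega) (by rw [st193_ok.2]; omega)
  by_cases c194 : k < 68374
  · exact chkList_get F R S st194 68118 st194_ok.1 k (by omega) (by rw [st194_ok.2]; omega)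
  by_cases c195 : k < 68630
  · exact chkList_get F R S st195 68374 st195_ok.1 k (by omega) (by rw [st195_ok.2]; omega)
  by_cases c196 : k < 68886
  · exact chkList_get F R S st196 68630 st196_ok.1 k (by omega) (by rw [st196_ok.2]; omega)
  by_cases c197 : k < 69142
  · exact chkList_get F R S st197 68886 st197_ok.1 k (by omega) (by rw [st197_ok.2]; omega)
  by_cases c198 : k < 69398
  · exact chkList_get F R S st198 69142 st198_ok.1 k (by omega) (by rw [st198_ok.2]; omega)
  by_cases c199 : k < 69654
  · exact chkList_get F R S st199 69398 st199_ok.1 k (by omega) (by rw [st199_ok.2]; omega)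
  by_cases c200 : k < 69910
  · exact chkList_get F R S st200 69654 st200_ok.1 k (by omega) (by rw [st200_ok.2]; omega)
  by_cases c201 : k < 70166
  · exact chkList_get F R S st201 69910 st201_ok.1 k (by omega) (by rw [st201_ok.2]; omega)
  by_cases c202 : k < 70422
  · exact chkList_get F R S st202 70166 st202_ok.1 k (by omega) (by rw [st202_ok.2]; omega)
  by_cases c203 : k < 70678
  · exact chkList_get F R S st203 70422 st203_ok.1 k (by omega) (by rw [st203_ok.2]; omega)
  by_cases c204 : k < 70934
  · exact chkList_get F R S st204 70678 st204_ok.1 k (by omega) (by rw [st204_ok.2]; omega)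
  by_cases c205 : k < 71190
  · exact chkList_get F R S st205 70934 st205_ok.1 k (by omega) (by rw [st205_ok.2]; omega)
  by_cases c206 : k < 71446
  · exact chkList_get F R S st206 71190 st206_ok.1 k (by omega) (by rw [st206_ok.2]; omega)
  by_cases c207 : k < 71702
  · exact chkList_get F R S st207 71446 st207_ok.1 k (by omega) (by rw [st207_ok.2]; omega)
  by_cases c208 : k < 71958
  · exact chkList_get F R S st208 71702 st208_ok.1 k (by omega) (by rw [st208_ok.2]; omega)
  by_cases c209 : k < 72214
  · exact chkList_get F R S st209 71958 st209_ok.1 k (by omega) (by rw [st209_ok.2]; omega)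
  by_cases c210 : k < 72470
  · exact chkList_get F R S st210 72214 st210_ok.1 k (by omega) (by rw [st210_ok.2]; omega)
  by_cases c211 : k < 72726
  · exact chkList_get F R S st211 72470 st211_ok.1 k (by omega) (by rw [st211_ok.2]; omega)
  by_cases c212 : k < 72982
  · exact chkList_get F R S st212 72726 st212_ok.1 k (by omega) (by rw [st212_ok.2]; omega)
  by_cases c213 : k < 73238
  · exact chkList_get F R S st213 72982 st213_ok.1 k (by omega) (by rw [st213_ok.2]; omega)
  by_cases c214 : k < 73494
  · exact chkList_get F R S st214 73238 st214_ok.1 k (by omega) (by rw [st214_ok.2]; omega)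
  by_cases c215 : k < 73750
  · exact chkList_get F R S st215 73494 st215_ok.1 k (by omega) (by rw [st215_ok.2]; omega)
  by_cases c216 : k < 74006
  · exact chkList_get F R S st216 73750 st216_ok.1 k (by omega) (by rw [st216_ok.2]; omega)
  by_cases c217 : k < 74262
  · exact chkList_get F R S st217 74006 st217_ok.1 k (by omega) (by rw [st217_ok.2]; omega)
  by_cases c218 : k < 74518
  · exact chkList_get F R S st218 74262 st218_ok.1 k (by omega) (by rw [st218_ok.2]; omega)
  by_cases c219 : k < 74774
  · exact chkList_get F R S st219 74518 st219_ok.1 k (by omega) (by rw [st219_ok.2]; omega)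
  by_cases c220 : k < 75030
  · exact chkList_get F R S st220 74774 st220_ok.1 k (by omega) (by rw [st220_ok.2]; omega)
  by_cases c221 : k < 75286
  · exact chkList_get F R S st221 75030 st221_ok.1 k (by omega) (by rw [st221_ok.2]; omega)
  by_cases c222 : k < 75542
  · exact chkList_get F R S st222 75286 st222_ok.1 k (by omega) (by rw [st222_ok.2]; omega)
  by_cases c223 : k < 75798
  · exact chkList_get F R S st223 75542 st223_ok.1 k (by omega) (by rw [st223_ok.2]; omega)
  by_cases c224 : k < 76054
  · exact chkList_get F R S st224 75798 st224_ok.1 k (by omega) (by rw [st224_ok.2]; omega)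
  by_cases c225 : k < 76310
  · exact chkList_get F R S st225 76054 st225_ok.1 k (by omega) (by rw [st225_ok.2]; omega)
  by_cases c226 : k < 76566
  · exact chkList_get F R S st226 76310 st226_ok.1 k (by omega) (by rw [st226_ok.2]; omega)
  by_cases c227 : k < 76822
  · exact chkList_get F R S st227 76566 st227_ok.1 k (by omega) (by rw [st227_ok.2]; omega)
  by_cases c228 : k < 77078
  · exact chkList_get F R S st228 76822 st228_ok.1 k (by omega) (by rw [st228_ok.2]; omega)
  by_cases c229 : k < 77334
  · exact chkList_get F R S st229 77078 st229_ok.1 k (by omega) (by rw [st229_ok.2]; omega)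
  by_cases c230 : k < 77590
  · exact chkList_get F R S st230 77334 st230_ok.1 k (by omega) (by rw [st230_ok.2]; omega)
  by_cases c231 : k < 77846
  · exact chkList_get F R S st231 77590 st231_ok.1 k (by omega) (by rw [st231_ok.2]; omega)
  by_cases c232 : k < 78102
  · exact chkList_get F R S st232 77846 st232_ok.1 k (by omega) (by rw [st232_ok.2]; omega)
  by_cases c233 : k < 78358
  · exact chkList_get F R S st233 78102 st233_ok.1 k (by omega) (by rw [st233_ok.2]; omega)
  by_cases c234 : k < 78614
  · exact chkList_get F R S st234 78358 st234_ok.1 k (by omega) (by rw [st234_ok.2]; omega)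
  by_cases c235 : k < 78870
  · exact chkList_get F R S st235 78614 st235_ok.1 k (by omega) (by rw [st235_ok.2]; omega)
  by_cases c236 : k < 79126
  · exact chkList_get F R S st236 78870 st236_ok.1 k (by omega) (by rw [st236_ok.2]; omega)
  by_cases c237 : k < 79382
  · exact chkList_get F R S st237 79126 st237_ok.1 k (by omega) (by rw [st237_ok.2]; omega)
  by_cases c238 : k < 79638
  · exact chkList_get F R S st238 79382 st238_ok.1 k (by omega) (by rw [st238_ok.2]; omega)
  by_cases c239 : k < 79894
  · exact chkList_get F R S st239 79638 st239_ok.1 k (by omega) (by rw [st239_ok.2]; omega)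
  by_cases c240 : k < 80150
  · exact chkList_get F R S st240 79894 st240_ok.1 k (by omega) (by rw [st240_ok.2]; omega)
  by_cases c241 : k < 80406
  · exact chkList_get F R S st241 80150 st241_ok.1 k (by omega) (by rw [st241_ok.2]; omega)
  by_cases c242 : k < 80662
  · exact chkList_get F R S st242 80406 st242_ok.1 k (by omega) (by rw [st242_ok.2]; omega)
  by_cases c243 : k < 80918
  · exact chkList_get F R S st243 80662 st243_ok.1 k (by omega) (by rw [st243_ok.2]; omega)
  by_cases c244 : k < 81174
  · exact chkList_get F R S st244 80918 st244_ok.1 k (by omega) (by rw [st244_ok.2]; omega)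
  by_cases c245 : k < 81430
  · exact chkList_get F R S st245 81174 st245_ok.1 k (by omega) (by rw [st245_ok.2]; omega)
  by_cases c246 : k < 81686
  · exact chkList_get F R S st246 81430 st246_ok.1 k (by omega) (by rw [st246_ok.2]; omega)
  by_cases c247 : k < 81942
  · exact chkList_get F R S st247 81686 st247_ok.1 k (by omega) (by rw [st247_ok.2]; omega)
  by_cases c248 : k < 82198
  · exact chkList_get F R S st248 81942 st248_ok.1 k (by omega) (by rw [st248_ok.2]; omega)
  by_cases c249 : k < 82454
  · exact chkList_get F R S st249 82198 st249_ok.1 k (by omega) (by rw [st249_ok.2]; omega)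
  by_cases c250 : k < 82710
  · exact chkList_get F R S st250 82454 st250_ok.1 k (by omega) (by rw [st250_ok.2]; omega)
  by_cases c251 : k < 82966
  · exact chkList_get F R S st251 82710 st251_ok.1 k (by omega) (by rw [st251_ok.2]; omega)
  by_cases c252 : k < 83222
  · exact chkList_get F R S st252 82966 st252_ok.1 k (by omega) (by rw [st252_ok.2]; omega)
  by_cases c253 : k < 83478
  · exact chkList_get F R S st253 83222 st253_ok.1 k (by omega) (by rw [st253_ok.2]; omega)
  by_cases c254 : k < 83734
  · exact chkList_get F R S st254 83478 st254_ok.1 k (by omega) (by rw [st254_ok.2]; omega)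
  by_cases c255 : k < 83990
  · exact chkList_get F R S st255 83734 st255_ok.1 k (by omega) (by rw [st255_ok.2]; omega)
  by_cases c256 : k < 84246
  · exact chkList_get F R S st256 83990 st256_ok.1 k (by omega) (by rw [st256_ok.2]; omega)
  by_cases c257 : k < 84502
  · exact chkList_get F R S st257 84246 st257_ok.1 k (by omega) (by rw [st257_ok.2]; omega)
  by_cases c258 : k < 84758
  · exact chkList_get F R S st258 84502 st258_ok.1 k (by omega) (by rw [st258_ok.2]; omega)
  by_cases c259 : k < 85014
  · exact chkList_get F R S st259 84758 st259_ok.1 k (by omega) (by rw [st259_ok.2]; omega)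
  by_cases c260 : k < 85270
  · exact chkList_get F R S st260 85014 st260_ok.1 k (by omega) (by rw [st260_ok.2]; omega)
  by_cases c261 : k < 85502
  · exact chkList_get F R S st261 85270 st261_ok.1 k (by omega) (by rw [st261_ok.2]; omega)
  omega

end H29.CosetCert.Fi22OData
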