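import Cfsg.Agent.H29.CosetCert.Fi22O.Table

/-! Certificate data for Fi22O, produced by a coset enumeration outside Lean and checked here. -/

set_option autoImplicit false
set_option maxRecDepth 16000
set_option Elab.async false

namespace H29.CosetCert.Fi22OData

open H29.CosetCert

theorem inv1_0 : allIn (fun c => Nat.blt (T 1 c) 14080 && T 1 (T 1 c) == c) 0 3600 = true := by decide +kernel

theorem inv1_1 : allIn (fun c => Nat.blt (T 1 c) 14080 && T 1 (T 1 c) == c) 3600 3600 = true := by decide +kernel

theorem inv1_2 : allIn (fun c => Nat.blt (T 1 c) 14080 && T 1 (T 1 c) == c) 7200 3600 = true := by decide +kernel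

theorem inv1_3 : allIn (fun c => Nat.blt (T 1 c) 14080 && T 1 (T 1 c) == c) 10800 3280 = true := by decide +kernel

theorem inv4_0 : allIn (fun c => Nat.blt (T 4 c) 14080 && T 4 (T 4 c) == c) 0 3600 = true := by decide +kernel

theorem inv4_1 : allIn (fun c => Nat.blt (T 4 c) 14080 && T 4 (T 4 c) == c) 3600 3600 = true := by decide +kernel

theorem inv4_2 : allIn (fun c => Nat.blt (T 4 c) 14080 && T 4 (T 4 c) == c) 7200 3600 = true := by decide +kernel

theorem inv4_3 : allIn (fun c => Nat.blt (T 4 c) 14080 && T 4 (T 4 c) == c) 10800 3280 = true := by decide +kernel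

theorem inv7_0 : allIn (fun c => Nat.blt (T 7 c) 14080 && T 7 (T 7 c) == c) 0 3600 = true := by decide +kernel

theorem inv7_1 : allIn (fun c => Nat.blt (T 7 c) 14080 && T 7 (T 7 c) == c) 3600 3600 = true := by decide +kernel

theorem inv7_2 : allIn (fun c => Nat.blt (T 7 c) 14080 && T 7 (T 7 c) == c) 7200 3600 = true := by decide +kernel

theorem inv7_3 : allIn (fun c => Nat.blt (T 7 c) 14080 && T 7 (T 7 c) == c) 10800 3280 = true := by decide +kernel

end H29.CosetCert.Fi22OData
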