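import Cfsg.Agent.H29.CosetCert.Fi22O.Inv0
import Cfsg.Agent.H29.CosetCert.Fi22O.Inv1
import Cfsg.Agent.H29.CosetCert.Fi22O.Inv2

/-! Certificate data for Fi22O, produced by a coset enumeration outside Lean and checked here. -/

set_option autoImplicit false
set_option maxRecDepth 16000
set_option Elab.async false

namespace H29.CosetCert.Fi22OData

open H29.CosetCert

theorem T_inv : allIn (fun x => invOK 14080 (T x)) 0 9 = true := by
  refine (allIn_iff _ _ _).2 fun x _ hx => (allIn_iff _ _ _).2 fun c _ hc => ?_
  by_cases e0 : x = 0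
  · subst e0
    by_cases d0 : c < 3600
    · exact (allIn_iff _ _ _).1 inv0_0 c (by omega) (by omega)
    by_cases d1 : c < 7200
    · exact (allIn_iff _ _ _).1 inv0_1 c (by omega) (by omega)
    by_cases d2 : c < 10800
    · exact (allIn_iff _ _ _).1 inv0_2 c (by omega) (by omega)
    by_cases d3 : c < 14080
    · exact (allIn_iff _ _ _).1 inv0_3 c (by omega) (by omega)
    omega
  by_cases e1 : x = 1
  · subst e1
    by_cases d0 : c < 3600
    · exact (allIn_iff _ _ _).1 inv1_0 c (by omega) (by omega)
    by_cases d1 : c < 7200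
    · exact (allIn_iff _ _ _).1 inv1_1 c (by omega) (by omega)
    by_cases d2 : c < 10800
    · exact (allIn_iff _ _ _).1 inv1_2 c (by omega) (by omega)
    by_cases d3 : c < 14080
    · exact (allIn_iff _ _ _).1 inv1_3 c (by omega) (by omega)
    omega
  by_cases e2 : x = 2
  · subst e2
    by_cases d0 : c < 3600
    · exact (allIn_iff _ _ _).1 inv2_0 c (by omega) (by omega)
    by_cases d1 : c < 7200
    · exact (allIn_iff _ _ _).1 inv2_1 c (by omega) (by omega)
    by_cases d2 : c < 10800
    · exact (allIn_iff _ _ _).1 inv2_2 c (by omega) (by omega)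
    by_cases d3 : c < 14080
    · exact (allIn_iff _ _ _).1 inv2_3 c (by omega) (by omega)
    omega
  by_cases e3 : x = 3
  · subst e3
    by_cases d0 : c < 3600
    · exact (allIn_iff _ _ _).1 inv3_0 c (by omega) (by omega)
    by_cases d1 : c < 7200
    · exact (allIn_iff _ _ _).1 inv3_1 c (by omega) (by omega)
    by_cases d2 : c < 10800
    · exact (allIn_iff _ _ _).1 inv3_2 c (by omega) (by omega)
    by_cases d3 : c < 14080
    · exact (allIn_iff _ _ _).1 inv3_3 c (by omega) (by omega)
    omega
  by_cases e4 : x = 4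
  · subst e4
    by_cases d0 : c < 3600
    · exact (allIn_iff _ _ _).1 inv4_0 c (by omega) (by omega)
    by_cases d1 : c < 7200
    · exact (allIn_iff _ _ _).1 inv4_1 c (by omega) (by omega)
    by_cases d2 : c < 10800
    · exact (allIn_iff _ _ _).1 inv4_2 c (by omega) (by omega)
    by_cases d3 : c < 14080
    · exact (allIn_iff _ _ _).1 inv4_3 c (by omega) (by omega)
    omega
  by_cases e5 : x = 5
  · subst e5
    by_cases d0 : c < 3600
    · exact (allIn_iff _ _ _).1 inv5_0 c (by omega) (by omega)
    by_cases d1 : c < 7200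
    · exact (allIn_iff _ _ _).1 inv5_1 c (by omega) (by omega)
    by_cases d2 : c < 10800
    · exact (allIn_iff _ _ _).1 inv5_2 c (by omega) (by omega)
    by_cases d3 : c < 14080
    · exact (allIn_iff _ _ _).1 inv5_3 c (by omega) (by omega)
    omega
  by_cases e6 : x = 6
  · subst e6
    by_cases d0 : c < 3600
    · exact (allIn_iff _ _ _).1 inv6_0 c (by omega) (by omega)
    by_cases d1 : c < 7200
    · exact (allIn_iff _ _ _).1 inv6_1 c (by omega) (by omega)
    by_cases d2 : c < 10800
    · exact (allIn_iff _ _ _).1 inv6_2 c (by omega) (by omega)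
    by_cases d3 : c < 14080
    · exact (allIn_iff _ _ _).1 inv6_3 c (by omega) (by omega)
    omega
  by_cases e7 : x = 7
  · subst e7
    by_cases d0 : c < 3600
    · exact (allIn_iff _ _ _).1 inv7_0 c (by omega) (by omega)
    by_cases d1 : c < 7200
    · exact (allIn_iff _ _ _).1 inv7_1 c (by omega) (by omega)
    by_cases d2 : c < 10800
    · exact (allIn_iff _ _ _).1 inv7_2 c (by omega) (by omega)
    by_cases d3 : c < 14080
    · exact (allIn_iff _ _ _).1 inv7_3 c (by omega) (by omega)
    omega
  by_cases e8 : x = 8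
  · subst e8
    by_cases d0 : c < 3600
    · exact (allIn_iff _ _ _).1 inv8_0 c (by omega) (by omega)
    by_cases d1 : c < 7200
    · exact (allIn_iff _ _ _).1 inv8_1 c (by omega) (by omega)
    by_cases d2 : c < 10800
    · exact (allIn_iff _ _ _).1 inv8_2 c (by omega) (by omega)
    by_cases d3 : c < 14080
    · exact (allIn_iff _ _ _).1 inv8_3 c (by omega) (by omega)
    omega
  omega

end H29.CosetCert.Fi22OData
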