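import Cfsg.Agent.H29.CosetCert.Fi22O.Table

/-! Certificate data for Fi22O, produced by a coset enumeration outside Lean and checked here. -/

set_option autoImplicit false
set_option maxRecDepth 16000
set_option Elab.async false

namespace H29.CosetCert.Fi22OData

open H29.CosetCert

theorem rels12_ok : allIn (fun c => allIn (fun i => runR T (R.getD i []) c == c) 0 48) 2400 200 = true := by decide +kernel

theorem rels13_ok : allIn (fun c => allIn (fun i => runR T (R.getD i []) c == c) 0 48) 2600 200 = true := by decide +kernel

theorem rels14_ok : allIn (fun c => allIn (fun i => runR T (R.getD i []) c == c) 0 48) 2800 200 = true := by decide +kernel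

theorem rels15_ok : allIn (fun c => allIn (fun i => runR T (R.getD i []) c == c) 0 48) 3000 200 = true := by decide +kernel

theorem rels16_ok : allIn (fun c => allIn (fun i => runR T (R.getD i []) c == c) 0 48) 3200 200 = true := by decide +kernel

theorem rels17_ok : allIn (fun c => allIn (fun i => runR T (R.getD i []) c == c) 0 48) 3400 200 = true := by decide +kernel

theorem rels18_ok : allIn (fun c => allIn (fun i => runR T (R.getD i []) c == c) 0 48) 3600 200 = true := by decide +kernel

theorem rels19_ok : allIn (fun c => allIn (fun i => runR T (R.getD i []) c == c) 0 48) 3800 200 = true := by decide +kernel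

theorem rels20_ok : allIn (fun c => allIn (fun i => runR T (R.getD i []) c == c) 0 48) 4000 200 = true := by decide +kernel

theorem rels21_ok : allIn (fun c => allIn (fun i => runR T (R.getD i []) c == c) 0 48) 4200 200 = true := by decide +kernel

theorem rels22_ok : allIn (fun c => allIn (fun i => runR T (R.getD i []) c == c) 0 48) 4400 200 = true := by decide +kernel

theorem rels23_ok : allIn (fun c => allIn (fun i => runR T (R.getD i []) c == c) 0 48) 4600 200 = true := by decide +kernel

end H29.CosetCert.Fi22OData
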