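import Cfsg.Agent.H29.CosetCert.Fi22O.Table

/-! Certificate data for Fi22O, produced by a coset enumeration outside Lean and checked here. -/

set_option autoImplicit false
set_option maxRecDepth 16000
set_option Elab.async false

namespace H29.CosetCert.Fi22OData

open H29.CosetCert

theorem rels24_ok : allIn (fun c => allIn (fun i => runR T (R.getD i []) c == c) 0 48) 4800 200 = true := by decide +kernel

theorem rels25_ok : allIn (fun c => allIn (fun i => runR T (R.getD i []) c == c) 0 48) 5000 200 = true := by decide +kernel

theorem rels26_ok : allIn (fun c => allIn (fun i => runR T (R.getD i []) c == c) 0 48) 5200 200 = true := by decide +kernel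

theorem rels27_ok : allIn (fun c => allIn (fun i => runR T (R.getD i []) c == c) 0 48) 5400 200 = true := by decide +kernel

theorem rels28_ok : allIn (fun c => allIn (fun i => runR T (R.getD i []) c == c) 0 48) 5600 200 = true := by decide +kernel

theorem rels29_ok : allIn (fun c => allIn (fun i => runR T (R.getD i []) c == c) 0 48) 5800 200 = true := by decide +kernel

theorem rels30_ok : allIn (fun c => allIn (fun i => runR T (R.getD i []) c == c) 0 48) 6000 200 = true := by decide +kernel

theorem rels31_ok : allIn (fun c => allIn (fun i => runR T (R.getD i []) c == c) 0 48) 6200 200 = true := by decide +kernel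

theorem rels32_ok : allIn (fun c => allIn (fun i => runR T (R.getD i []) c == c) 0 48) 6400 200 = true := by decide +kernel

theorem rels33_ok : allIn (fun c => allIn (fun i => runR T (R.getD i []) c == c) 0 48) 6600 200 = true := by decide +kernel

theorem rels34_ok : allIn (fun c => allIn (fun i => runR T (R.getD i []) c == c) 0 48) 6800 200 = true := by decide +kernel

theorem rels35_ok : allIn (fun c => allIn (fun i => runR T (R.getD i []) c == c) 0 48) 7000 200 = true := by decide +kernel

end H29.CosetCert.Fi22OData
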