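import Cfsg.Agent.H29.CosetCert.Fi22O.Table

/-! Certificate data for Fi22O, produced by a coset enumeration outside Lean and checked here. -/

set_option autoImplicit false
set_option maxRecDepth 16000
set_option Elab.async false

namespace H29.CosetCert.Fi22OData

open H29.CosetCert

theorem rels36_ok : allIn (fun c => allIn (fun i => runR T (R.getD i []) c == c) 0 48) 7200 200 = true := by decide +kernel

theorem rels37_ok : allIn (fun c => allIn (fun i => runR T (R.getD i []) c == c) 0 48) 7400 200 = true := by decide +kernel

theorem rels38_ok : allIn (fun c => allIn (fun i => runR T (R.getD i []) c == c) 0 48) 7600 200 = true := by decide +kernel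

theorem rels39_ok : allIn (fun c => allIn (fun i => runR T (R.getD i []) c == c) 0 48) 7800 200 = true := by decide +kernel

theorem rels40_ok : allIn (fun c => allIn (fun i => runR T (R.getD i []) c == c) 0 48) 8000 200 = true := by decide +kernel

theorem rels41_ok : allIn (fun c => allIn (fun i => runR T (R.getD i []) c == c) 0 48) 8200 200 = true := by decide +kernel

theorem rels42_ok : allIn (fun c => allIn (fun i => runR T (R.getD i []) c == c) 0 48) 8400 200 = true := by decide +kernel

theorem rels43_ok : allIn (fun c => allIn (fun i => runR T (R.getD i []) c == c) 0 48) 8600 200 = true := by decide +kernel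

theorem rels44_ok : allIn (fun c => allIn (fun i => runR T (R.getD i []) c == c) 0 48) 8800 200 = true := by decide +kernel

theorem rels45_ok : allIn (fun c => allIn (fun i => runR T (R.getD i []) c == c) 0 48) 9000 200 = true := by decide +kernel

theorem rels46_ok : allIn (fun c => allIn (fun i => runR T (R.getD i []) c == c) 0 48) 9200 200 = true := by decide +kernel

theorem rels47_ok : allIn (fun c => allIn (fun i => runR T (R.getD i []) c == c) 0 48) 9400 200 = true := by decide +kernel

end H29.CosetCert.Fi22OData
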