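import Cfsg.Agent.H29.CosetCert.Fi22O.Table

/-! Certificate data for Fi22O, produced by a coset enumeration outside Lean and checked here. -/

set_option autoImplicit false
set_option maxRecDepth 16000
set_option Elab.async false

namespace H29.CosetCert.Fi22OData

open H29.CosetCert

theorem rels48_ok : allIn (fun c => allIn (fun i => runR T (R.getD i []) c == c) 0 48) 9600 200 = true := by decide +kernel

theorem rels49_ok : allIn (fun c => allIn (fun i => runR T (R.getD i []) c == c) 0 48) 9800 200 = true := by decide +kernel

theorem rels50_ok : allIn (fun c => allIn (fun i => runR T (R.getD i []) c == c) 0 48) 10000 200 = true := by decide +kernel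

theorem rels51_ok : allIn (fun c => allIn (fun i => runR T (R.getD i []) c == c) 0 48) 10200 200 = true := by decide +kernel

theorem rels52_ok : allIn (fun c => allIn (fun i => runR T (R.getD i []) c == c) 0 48) 10400 200 = true := by decide +kernel

theorem rels53_ok : allIn (fun c => allIn (fun i => runR T (R.getD i []) c == c) 0 48) 10600 200 = true := by decide +kernel

theorem rels54_ok : allIn (fun c => allIn (fun i => runR T (R.getD i []) c == c) 0 48) 10800 200 = true := by decide +kernel

theorem rels55_ok : allIn (fun c => allIn (fun i => runR T (R.getD i []) c == c) 0 48) 11000 200 = true := by decide +kernel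

theorem rels56_ok : allIn (fun c => allIn (fun i => runR T (R.getD i []) c == c) 0 48) 11200 200 = true := by decide +kernel

theorem rels57_ok : allIn (fun c => allIn (fun i => runR T (R.getD i []) c == c) 0 48) 11400 200 = true := by decide +kernel

theorem rels58_ok : allIn (fun c => allIn (fun i => runR T (R.getD i []) c == c) 0 48) 11600 200 = true := by decide +kernel

theorem rels59_ok : allIn (fun c => allIn (fun i => runR T (R.getD i []) c == c) 0 48) 11800 200 = true := by decide +kernel

end H29.CosetCert.Fi22OData
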