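import Cfsg.Agent.H29.CosetCert.Fi22O.Table

/-! Certificate data for Fi22O, produced by a coset enumeration outside Lean and checked here. -/

set_option autoImplicit false
set_option maxRecDepth 16000
set_option Elab.async false

namespace H29.CosetCert.Fi22OData

open H29.CosetCert

theorem rels60_ok : allIn (fun c => allIn (fun i => runR T (R.getD i []) c == c) 0 48) 12000 200 = true := by decide +kernel

theorem rels61_ok : allIn (fun c => allIn (fun i => runR T (R.getD i []) c == c) 0 48) 12200 200 = true := by decide +kernel

theorem rels62_ok : allIn (fun c => allIn (fun i => runR T (R.getD i []) c == c) 0 48) 12400 200 = true := by decide +kernel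

theorem rels63_ok : allIn (fun c => allIn (fun i => runR T (R.getD i []) c == c) 0 48) 12600 200 = true := by decide +kernel

theorem rels64_ok : allIn (fun c => allIn (fun i => runR T (R.getD i []) c == c) 0 48) 12800 200 = true := by decide +kernel

theorem rels65_ok : allIn (fun c => allIn (fun i => runR T (R.getD i []) c == c) 0 48) 13000 200 = true := by decide +kernel

theorem rels66_ok : allIn (fun c => allIn (fun i => runR T (R.getD i []) c == c) 0 48) 13200 200 = true := by decide +kernel

theorem rels67_ok : allIn (fun c => allIn (fun i => runR T (R.getD i []) c == c) 0 48) 13400 200 = true := by decide +kernel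

theorem rels68_ok : allIn (fun c => allIn (fun i => runR T (R.getD i []) c == c) 0 48) 13600 200 = true := by decide +kernel

theorem rels69_ok : allIn (fun c => allIn (fun i => runR T (R.getD i []) c == c) 0 48) 13800 200 = true := by decide +kernel

theorem rels70_ok : allIn (fun c => allIn (fun i => runR T (R.getD i []) c == c) 0 48) 14000 80 = true := by decide +kernel

end H29.CosetCert.Fi22OData
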