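import Cfsg.Agent.H29.CosetCert.Fi22O.Rels0
import Cfsg.Agent.H29.CosetCert.Fi22O.Rels1
import Cfsg.Agent.H29.CosetCert.Fi22O.Rels2
import Cfsg.Agent.H29.CosetCert.Fi22O.Rels3
import Cfsg.Agent.H29.CosetCert.Fi22O.Rels4
import Cfsg.Agent.H29.CosetCert.Fi22O.Rels5

/-! Certificate data for Fi22O, produced by a coset enumeration outside Lean and checked here. -/

set_option autoImplicit false
set_option maxRecDepth 16000
set_option Elab.async false

namespace H29.CosetCert.Fi22OData

open H29.CosetCert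

theorem rels_ok (c i : ℕ) (hc : c < 14080) (hi : i < 48) : runR T (R.getD i []) c = c := by
  by_cases h0 : c < 200
  · exact beq_iff_eq.mp ((allIn_iff _ _ _).1 ((allIn_iff _ _ _).1 rels0_ok c (by omega) (by omega)) i (by omega) (by omega))
  by_cases h1 : c < 400
  · exact beq_iff_eq.mp ((allIn_iff _ _ _).1 ((allIn_iff _ _ _).1 rels1_ok c (by omega) (by omega)) i (by omega) (by omega))
  by_cases h2 : c < 600
  · exact beq_iff_eq.mp ((allIn_iff _ _ _).1 ((allIn_iff _ _ _).1 rels2_ok c (by omega) (by omega)) i (by omega) (by omega))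
  by_cases h3 : c < 800
  · exact beq_iff_eq.mp ((allIn_iff _ _ _).1 ((allIn_iff _ _ _).1 rels3_ok c (by omega) (by omega)) i (by omega) (by omega))
  by_cases h4 : c < 1000
  · exact beq_iff_eq.mp ((allIn_iff _ _ _).1 ((allIn_iff _ _ _).1 rels4_ok c (by omega) (by omega)) i (by omega) (by omega))
  by_cases h5 : c < 1200
  · exact beq_iff_eq.mp ((allIn_iff _ _ _).1 ((allIn_iff _ _ _).1 rels5_ok c (by omega) (by omega)) i (by omega) (by omega))
  by_cases h6 : c < 1400
  · exact beq_iff_eq.mp ((allIn_iff _ _ _).1 ((allIn_iff _ _ _).1 rels6_ok c (by omega) (by omega)) i (by omega) (by omega))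
  by_cases h7 : c < 1600
  · exact beq_iff_eq.mp ((allIn_iff _ _ _).1 ((allIn_iff _ _ _).1 rels7_ok c (by omega) (by omega)) i (by omega) (by omega))
  by_cases h8 : c < 1800
  · exact beq_iff_eq.mp ((allIn_iff _ _ _).1 ((allIn_iff _ _ _).1 rels8_ok c (by omega) (by omega)) i (by omega) (by omega))
  by_cases h9 : c < 2000
  · exact beq_iff_eq.mp ((allIn_iff _ _ _).1 ((allIn_iff _ _ _).1 rels9_ok c (by omega) (by omega)) i (by omega) (by omega))
  by_cases h10 : c < 2200
  · exact beq_iff_eq.mp ((allIn_iff _ _ _).1 ((allIn_iff _ _ _).1 rels10_ok c (by omega) (by omega)) i (by omega) (by omega))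
  by_cases h11 : c < 2400
  · exact beq_iff_eq.mp ((allIn_iff _ _ _).1 ((allIn_iff _ _ _).1 rels11_ok c (by omega) (by omega)) i (by omega) (by omega))
  by_cases h12 : c < 2600
  · exact beq_iff_eq.mp ((allIn_iff _ _ _).1 ((allIn_iff _ _ _).1 rels12_ok c (by omega) (by omega)) i (by omega) (by omega))
  by_cases h13 : c < 2800
  · exact beq_iff_eq.mp ((allIn_iff _ _ _).1 ((allIn_iff _ _ _).1 rels13_ok c (by omega) (by omega)) i (by omega) (by omega))
  by_cases h14 : c < 3000
  · exact beq_iff_eq.mp ((allIn_iff _ _ _).1 ((allIn_iff _ _ _).1 rels14_ok c (by omega) (by omega)) i (by omega) (by omega))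
  by_cases h15 : c < 3200
  · exact beq_iff_eq.mp ((allIn_iff _ _ _).1 ((allIn_iff _ _ _).1 rels15_ok c (by omega) (by omega)) i (by omega) (by omega))
  by_cases h16 : c < 3400
  · exact beq_iff_eq.mp ((allIn_iff _ _ _).1 ((allIn_iff _ _ _).1 rels16_ok c (by omega) (by omega)) i (by omega) (by omega))
  by_cases h17 : c < 3600
  · exact beq_iff_eq.mp ((allIn_iff _ _ _).1 ((allIn_iff _ _ _).1 rels17_ok c (by omega) (by omega)) i (by omega) (by omega))
  by_cases h18 : c < 3800
  · exact beq_iff_eq.mp ((allIn_iff _ _ _).1 ((allIn_iff _ _ _).1 rels18_ok c (by omega) (by omega)) i (by omega) (by omega))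
  by_cases h19 : c < 4000
  · exact beq_iff_eq.mp ((allIn_iff _ _ _).1 ((allIn_iff _ _ _).1 rels19_ok c (by omega) (by omega)) i (by omega) (by omega))
  by_cases h20 : c < 4200
  · exact beq_iff_eq.mp ((allIn_iff _ _ _).1 ((allIn_iff _ _ _).1 rels20_ok c (by omega) (by omega)) i (by omega) (by omega))
  by_cases h21 : c < 4400
  · exact beq_iff_eq.mp ((allIn_iff _ _ _).1 ((allIn_iff _ _ _).1 rels21_ok c (by omega) (by omega)) i (by omega) (by omega))
  by_cases h22 : c < 4600
  · exact beq_iff_eq.mp ((allIn_iff _ _ _).1 ((allIn_iff _ _ _).1 rels22_ok c (by omega) (by omega)) i (by omega) (by omega))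
  by_cases h23 : c < 4800
  · exact beq_iff_eq.mp ((allIn_iff _ _ _).1 ((allIn_iff _ _ _).1 rels23_ok c (by omega) (by omega)) i (by omega) (by omega))
  by_cases h24 : c < 5000
  · exact beq_iff_eq.mp ((allIn_iff _ _ _).1 ((allIn_iff _ _ _).1 rels24_ok c (by omega) (by omega)) i (by omega) (by omega))
  by_cases h25 : c < 5200
  · exact beq_iff_eq.mp ((allIn_iff _ _ _).1 ((allIn_iff _ _ _).1 rels25_ok c (by omega) (by omega)) i (by omega) (by omega))
  by_cases h26 : c < 5400
  · exact beq_iff_eq.mp ((allIn_iff _ _ _).1 ((allIn_iff _ _ _).1 rels26_ok c (by omega) (by omega)) i (by omega) (by omega))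
  by_cases h27 : c < 5600
  · exact beq_iff_eq.mp ((allIn_iff _ _ _).1 ((allIn_iff _ _ _).1 rels27_ok c (by omega) (by omega)) i (by omega) (by omega))
  by_cases h28 : c < 5800
  · exact beq_iff_eq.mp ((allIn_iff _ _ _).1 ((allIn_iff _ _ _).1 rels28_ok c (by omega) (by omega)) i (by omega) (by omega))
  by_cases h29 : c < 6000
  · exact beq_iff_eq.mp ((allIn_iff _ _ _).1 ((allIn_iff _ _ _).1 rels29_ok c (by omega) (by omega)) i (by omega) (by omega))
  by_cases h30 : c < 6200
  · exact beq_iff_eq.mp ((allIn_iff _ _ _).1 ((allIn_iff _ _ _).1 rels30_ok c (by omega) (by omega)) i (by omega) (by omega))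
  by_cases h31 : c < 6400
  · exact beq_iff_eq.mp ((allIn_iff _ _ _).1 ((allIn_iff _ _ _).1 rels31_ok c (by omega) (by omega)) i (by omega) (by omega))
  by_cases h32 : c < 6600
  · exact beq_iff_eq.mp ((allIn_iff _ _ _).1 ((allIn_iff _ _ _).1 rels32_ok c (by omega) (by omega)) i (by omega) (by omega))
  by_cases h33 : c < 6800
  · exact beq_iff_eq.mp ((allIn_iff _ _ _).1 ((allIn_iff _ _ _).1 rels33_ok c (by omega) (by omega)) i (by omega) (by omega))
  by_cases h34 : c < 7000
  · exact beq_iff_eq.mp ((allIn_iff _ _ _).1 ((allIn_iff _ _ _).1 rels34_ok c (by omega) (by omega)) i (by omega) (by omega))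
  by_cases h35 : c < 7200
  · exact beq_iff_eq.mp ((allIn_iff _ _ _).1 ((allIn_iff _ _ _).1 rels35_ok c (by omega) (by omega)) i (by omega) (by omega))
  by_cases h36 : c < 7400
  · exact beq_iff_eq.mp ((allIn_iff _ _ _).1 ((allIn_iff _ _ _).1 rels36_ok c (by omega) (by omega)) i (by omega) (by omega))
  by_cases h37 : c < 7600
  · exact beq_iff_eq.mp ((allIn_iff _ _ _).1 ((allIn_iff _ _ _).1 rels37_ok c (by omega) (by omega)) i (by omega) (by omega))
  by_cases h38 : c < 7800
  · exact beq_iff_eq.mp ((allIn_iff _ _ _).1 ((allIn_iff _ _ _).1 rels38_ok c (by omega) (by omega)) i (by omega) (by omega))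
  by_cases h39 : c < 8000
  · exact beq_iff_eq.mp ((allIn_iff _ _ _).1 ((allIn_iff _ _ _).1 rels39_ok c (by omega) (by omega)) i (by omega) (by omega))
  by_cases h40 : c < 8200
  · exact beq_iff_eq.mp ((allIn_iff _ _ _).1 ((allIn_iff _ _ _).1 rels40_ok c (by omega) (by omega)) i (by omega) (by omega))
  by_cases h41 : c < 8400
  · exact beq_iff_eq.mp ((allIn_iff _ _ _).1 ((allIn_iff _ _ _).1 rels41_ok c (by omega) (by omega)) i (by omega) (by omega))
  by_cases h42 : c < 8600
  · exact beq_iff_eq.mp ((allIn_iff _ _ _).1 ((allIn_iff _ _ _).1 rels42_ok c (by omega) (by omega)) i (by omega) (by omega))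
  by_cases h43 : c < 8800
  · exact beq_iff_eq.mp ((allIn_iff _ _ _).1 ((allIn_iff _ _ _).1 rels43_ok c (by omega) (by omega)) i (by omega) (by omega))
  by_cases h44 : c < 9000
  · exact beq_iff_eq.mp ((allIn_iff _ _ _).1 ((allIn_iff _ _ _).1 rels44_ok c (by omega) (by omega)) i (by omega) (by omega))
  by_cases h45 : c < 9200
  · exact beq_iff_eq.mp ((allIn_iff _ _ _).1 ((allIn_iff _ _ _).1 rels45_ok c (by omega) (by omega)) i (by omega) (by omega))
  by_cases h46 : c < 9400
  · exact beq_iff_eq.mp ((allIn_iff _ _ _).1 ((allIn_iff _ _ _).1 rels46_ok c (by omega) (by omega)) i (by omega) (by omega))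
  by_cases h47 : c < 9600
  · exact beq_iff_eq.mp ((allIn_iff _ _ _).1 ((allIn_iff _ _ _).1 rels47_ok c (by omega) (by omega)) i (by omega) (by omega))
  by_cases h48 : c < 9800
  · exact beq_iff_eq.mp ((allIn_iff _ _ _).1 ((allIn_iff _ _ _).1 rels48_ok c (by omega) (by omega)) i (by omega) (by omega))
  by_cases h49 : c < 10000
  · exact beq_iff_eq.mp ((allIn_iff _ _ _).1 ((allIn_iff _ _ _).1 rels49_ok c (by omega) (by omega)) i (by omega) (by omega))
  by_cases h50 : c < 10200
  · exact beq_iff_eq.mp ((allIn_iff _ _ _).1 ((allIn_iff _ _ _).1 rels50_ok c (by omega) (by omega)) i (by omega) (by omega))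
  by_cases h51 : c < 10400
  · exact beq_iff_eq.mp ((allIn_iff _ _ _).1 ((allIn_iff _ _ _).1 rels51_ok c (by omega) (by omega)) i (by omega) (by omega))
  by_cases h52 : c < 10600
  · exact beq_iff_eq.mp ((allIn_iff _ _ _).1 ((allIn_iff _ _ _).1 rels52_ok c (by omega) (by omega)) i (by omega) (by omega))
  by_cases h53 : c < 10800
  · exact beq_iff_eq.mp ((allIn_iff _ _ _).1 ((allIn_iff _ _ _).1 rels53_ok c (by omega) (by omega)) i (by omega) (by omega))
  by_cases h54 : c < 11000
  · exact beq_iff_eq.mp ((allIn_iff _ _ _).1 ((allIn_iff _ _ _).1 rels54_ok c (by omega) (by omega)) i (by omega) (by omega))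
  by_cases h55 : c < 11200
  · exact beq_iff_eq.mp ((allIn_iff _ _ _).1 ((allIn_iff _ _ _).1 rels55_ok c (by omega) (by omega)) i (by omega) (by omega))
  by_cases h56 : c < 11400
  · exact beq_iff_eq.mp ((allIn_iff _ _ _).1 ((allIn_iff _ _ _).1 rels56_ok c (by omega) (by omega)) i (by omega) (by omega))
  by_cases h57 : c < 11600
  · exact beq_iff_eq.mp ((allIn_iff _ _ _).1 ((allIn_iff _ _ _).1 rels57_ok c (by omega) (by omega)) i (by omega) (by omega))
  by_cases h58 : c < 11800
  · exact beq_iff_eq.mp ((allIn_iff _ _ _).1 ((allIn_iff _ _ _).1 rels58_ok c (by omega) (by omega)) i (by omega) (by omega))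
  by_cases h59 : c < 12000
  · exact beq_iff_eq.mp ((allIn_iff _ _ _).1 ((allIn_iff _ _ _).1 rels59_ok c (by omega) (by omega)) i (by omega) (by omega))
  by_cases h60 : c < 12200
  · exact beq_iff_eq.mp ((allIn_iff _ _ _).1 ((allIn_iff _ _ _).1 rels60_ok c (by omega) (by omega)) i (by omega) (by omega))
  by_cases h61 : c < 12400
  · exact beq_iff_eq.mp ((allIn_iff _ _ _).1 ((allIn_iff _ _ _).1 rels61_ok c (by omega) (by omega)) i (by omega) (by omega))
  by_cases h62 : c < 12600
  · exact beq_iff_eq.mp ((allIn_iff _ _ _).1 ((allIn_iff _ _ _).1 rels62_ok c (by omega) (by omega)) i (by omega) (by omega))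
  by_cases h63 : c < 12800
  · exact beq_iff_eq.mp ((allIn_iff _ _ _).1 ((allIn_iff _ _ _).1 rels63_ok c (by omega) (by omega)) i (by omega) (by omega))
  by_cases h64 : c < 13000
  · exact beq_iff_eq.mp ((allIn_iff _ _ _).1 ((allIn_iff _ _ _).1 rels64_ok c (by omega) (by omega)) i (by omega) (by omega))
  by_cases h65 : c < 13200
  · exact beq_iff_eq.mp ((allIn_iff _ _ _).1 ((allIn_iff _ _ _).1 rels65_ok c (by omega) (by omega)) i (by omega) (by omega))
  by_cases h66 : c < 13400
  · exact beq_iff_eq.mp ((allIn_iff _ _ _).1 ((allIn_iff _ _ _).1 rels66_ok c (by omega) (by omega)) i (by omega) (by omega))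
  by_cases h67 : c < 13600
  · exact beq_iff_eq.mp ((allIn_iff _ _ _).1 ((allIn_iff _ _ _).1 rels67_ok c (by omega) (by omega)) i (by omega) (by omega))
  by_cases h68 : c < 13800
  · exact beq_iff_eq.mp ((allIn_iff _ _ _).1 ((allIn_iff _ _ _).1 rels68_ok c (by omega) (by omega)) i (by omega) (by omega))
  by_cases h69 : c < 14000
  · exact beq_iff_eq.mp ((allIn_iff _ _ _).1 ((allIn_iff _ _ _).1 rels69_ok c (by omega) (by omega)) i (by omega) (by omega))
  by_cases h70 : c < 14080
  · exact beq_iff_eq.mp ((allIn_iff _ _ _).1 ((allIn_iff _ _ _).1 rels70_ok c (by omega) (by omega)) i (by omega) (by omega))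
  omega

end H29.CosetCert.Fi22OData
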