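import Cfsg.Agent.H29.CosetCert.Fi22O.Table

/-! Certificate data for Fi22O, produced by a coset enumeration outside Lean and checked here. -/

set_option autoImplicit false
set_option maxRecDepth 16000
set_option Elab.async false

namespace H29.CosetCert.Fi22OData

open H29.CosetCert

theorem rels0_ok : allIn (fun c => allIn (fun i => runR T (R.getD i []) c == c) 0 48) 0 200 = true := by decide +kernel

theorem rels1_ok : allIn (fun c => allIn (fun i => runR T (R.getD i []) c == c) 0 48) 200 200 = true := by decide +kernel

theorem rels2_ok : allIn (fun c => allIn (fun i => runR T (R.getD i []) c == c) 0 48) 400 200 = true := by decide +kernel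

theorem rels3_ok : allIn (fun c => allIn (fun i => runR T (R.getD i []) c == c) 0 48) 600 200 = true := by decide +kernel

theorem rels4_ok : allIn (fun c => allIn (fun i => runR T (R.getD i []) c == c) 0 48) 800 200 = true := by decide +kernel

theorem rels5_ok : allIn (fun c => allIn (fun i => runR T (R.getD i []) c == c) 0 48) 1000 200 = true := by decide +kernel

theorem rels6_ok : allIn (fun c => allIn (fun i => runR T (R.getD i []) c == c) 0 48) 1200 200 = true := by decide +kernel

theorem rels7_ok : allIn (fun c => allIn (fun i => runR T (R.getD i []) c == c) 0 48) 1400 200 = true := by decide +kernel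

theorem rels8_ok : allIn (fun c => allIn (fun i => runR T (R.getD i []) c == c) 0 48) 1600 200 = true := by decide +kernel

theorem rels9_ok : allIn (fun c => allIn (fun i => runR T (R.getD i []) c == c) 0 48) 1800 200 = true := by decide +kernel

theorem rels10_ok : allIn (fun c => allIn (fun i => runR T (R.getD i []) c == c) 0 48) 2000 200 = true := by decide +kernel

theorem rels11_ok : allIn (fun c => allIn (fun i => runR T (R.getD i []) c == c) 0 48) 2200 200 = true := by decide +kernel

end H29.CosetCert.Fi22OData
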